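import Groth.Agent.An92.ArMin.Smooth
import Mathlib.RingTheory.RingHom.FaithfullyFlat

/-! A smooth proper surface over a Dedekind scheme is relatively minimal. -/

set_option autoImplicit false
set_option backward.isDefEq.respectTransparency.types false

universe u

open AlgebraicGeometry CategoryTheory CategoryTheory.Limits TopologicalSpace

namespace Groth.Agent.An92.ArMin

variable {R : Type u} [CommRing R] [IsDedekindDomain R]

/-- A flat preimmersion induces isomorphisms of local rings. -/
theorem isIso_stalkMap_of_flat_preimmersion {X Y : Scheme.{u}} (f : X ⟶ Y) [Flat f] [IsPreimmersion f] (x : X) :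
    IsIso (f.stalkMap x) := by
  rw [ConcreteCategory.isIso_iff_bijective]
  refine ⟨?_, f.stalkMap_surjective x⟩
  letI := (f.stalkMap x).hom.toAlgebra
  have : Module.Flat (Y.presheaf.stalk (f x)) (X.presheaf.stalk x) := Flat.stalkMap f x
  have : IsLocalHom (algebraMap (Y.presheaf.stalk (f x)) (X.presheaf.stalk x)) :=
    inferInstanceAs (IsLocalHom (f.stalkMap x).hom)
  have : Module.FaithfullyFlat (Y.presheaf.stalk (f x)) (X.presheaf.stalk x) :=
    Module.FaithfullyFlat.of_flat_of_isLocalHom
  exact RingHom.FaithfullyFlat.injective (f := (f.stalkMap x).hom) this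

theorem flat_genPt (S : Type u) [CommRing S] [IsDomain S] : Flat (Neron.genPt S) :=
  (HasRingHomProperty.Spec_iff (P := @Flat)).2
    ((RingHom.flat_algebraMap_iff).2 (IsLocalization.flat (FractionRing S) (nonZeroDivisors S)))

theorem isPreimmersion_genPt (S : Type u) [CommRing S] [IsDomain S] : IsPreimmersion (Neron.genPt S) :=
  IsPreimmersion.of_isLocalization (nonZeroDivisors S)

theorem range_genPt : Set.range (Neron.genPt R) = {(⊥ : PrimeSpectrum R)} := by
  refine Set.eq_singleton_iff_nonempty_unique_mem.2 ⟨⟨_, IsLocalRing.closedPoint _, rfl⟩, ?_⟩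
  rintro _ ⟨p, rfl⟩
  refine PrimeSpectrum.ext ?_
  show (PrimeSpectrum.asIdeal (R := FractionRing R) p).comap (algebraMap R (FractionRing R)) = ⊥
  rw [Ideal.eq_bot_of_prime (PrimeSpectrum.asIdeal (R := FractionRing R) p), ← RingHom.ker_eq_comap_bot,
    (RingHom.injective_iff_ker_eq_bot _).1 (IsFractionRing.injective R (FractionRing R))]

/-- A morphism which is an isomorphism on generic fibres, seen at the points over the generic point. -/
theorem generic_behaviour (X Y : Over (Spec (CommRingCat.of R))) (g : X ⟶ Y)
    (hg : IsIso ((Neron.genericFibre R).map g)) :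
    (∀ x : X.left, X.hom x = (⊥ : PrimeSpectrum R) → IsIso (g.left.stalkMap x)) ∧
      (∀ x x' : X.left, X.hom x = (⊥ : PrimeSpectrum R) → g.left x = g.left x' → x = x') ∧
      ∀ y : Y.left, Y.hom y = (⊥ : PrimeSpectrum R) → ∃ x : X.left, g.left x = y := by
  have := flat_genPt R
  have := isPreimmersion_genPt R
  let a := pullback.fst X.hom (Neron.genPt R)
  let b := pullback.fst Y.hom (Neron.genPt R)
  have : Flat a := MorphismProperty.pullback_fst _ _ inferInstance
  have : Flat b := MorphismProperty.pullback_fst _ _ inferInstance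
  have : IsPreimmersion a := MorphismProperty.pullback_fst _ _ inferInstance
  have : IsPreimmersion b := MorphismProperty.pullback_fst _ _ inferInstance
  let γ : pullback X.hom (Neron.genPt R) ⟶ pullback Y.hom (Neron.genPt R) := ((Neron.genericFibre R).map g).left
  have : IsIso γ := inferInstanceAs (IsIso ((Over.forget _).map ((Neron.genericFibre R).map g)))
  have hsq : γ ≫ b = a ≫ g.left := pullback.lift_fst _ _ _
  have hpt : ∀ w, g.left (a w) = b (γ w) := fun w => (congrArg (fun m => (m : _ ⟶ Y.left) w) hsq).symm
  have hmem : ∀ x : X.left, X.hom x = (⊥ : PrimeSpectrum R) → ∃ w, a w = x := fun x hx => by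
    have : x ∈ Set.range a := by rw [Scheme.Pullback.range_fst, range_genPt]; exact hx
    exact this
  refine ⟨fun x hx => ?_, fun x x' hx he => ?_, fun y hy => ?_⟩
  · obtain ⟨w, rfl⟩ := hmem x hx
    have := isIso_stalkMap_of_flat_preimmersion a w
    have := isIso_stalkMap_of_flat_preimmersion b (γ w)
    have h : IsIso ((γ ≫ b).stalkMap w) := by
      rw [Scheme.Hom.stalkMap_comp]
      exact IsIso.comp_isIso' (isIso_stalkMap_of_flat_preimmersion b (γ w))
        (@isIso_stalkMap_of_flat_preimmersion _ _ γ inferInstance inferInstance w)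
    rw [Scheme.Hom.stalkMap_congr_hom _ _ hsq] at h
    have h' := @IsIso.of_isIso_comp_left _ _ _ _ _ _ _ inferInstance h
    rw [Scheme.Hom.stalkMap_comp] at h'
    exact @IsIso.of_isIso_comp_right _ _ _ _ _ _ _ inferInstance h'
  · obtain ⟨w, rfl⟩ := hmem x hx
    have hx' : X.hom x' = (⊥ : PrimeSpectrum R) := by
      have hw : ∀ z : X.left, Y.hom (g.left z) = X.hom z :=
        fun z => congrArg (fun m => (m : _ ⟶ Spec (CommRingCat.of R)) z) (Over.w g)
      exact ((hw x').symm.trans ((congrArg Y.hom he.symm).trans (hw _))).trans hx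
    obtain ⟨w', rfl⟩ := hmem x' hx'
    rw [hpt, hpt] at he
    rw [γ.homeomorph.injective ((b.isEmbedding.injective he) : γ w = γ w')]
  · have : y ∈ Set.range b := by rw [Scheme.Pullback.range_fst, range_genPt]; exact hy
    obtain ⟨v, rfl⟩ := this
    obtain ⟨w, rfl⟩ := γ.homeomorph.surjective v
    exact ⟨a w, hpt w⟩

/-- A morphism from a smooth proper surface, iso on generic fibres, is an isomorphism. -/
theorem isIso_of_genericFibre (X Y : Over (Spec (CommRingCat.of R))) [IsIntegral X.left] [Smooth X.hom]
    [IsProper X.hom] [IsProper Y.hom] [Flat Y.hom] (hdim : topologicalKrullDim X.left ≤ 2)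
    (hY : ∀ y : Y.left, IsRegularLocalRing (Y.left.presheaf.stalk y)) (g : X ⟶ Y)
    (hg : IsIso ((Neron.genericFibre R).map g)) : IsIso g := by
  obtain ⟨hst, hinj, hsurj⟩ := generic_behaviour X Y g hg
  let G := g.left
  have hGp : G ≫ Y.hom = X.hom := Over.w g
  have hGp' : ∀ x, Y.hom (G x) = X.hom x := fun x => congrArg (fun m => (m : _ ⟶ Spec (CommRingCat.of R)) x) hGp
  have : IsProper (G ≫ Y.hom) := by rw [hGp]; infer_instance
  have : IsProper G := IsProper.of_comp G Y.hom
  have : IsLocallyNoetherian Y.left := LocallyOfFiniteType.isLocallyNoetherian Y.hom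
  have : IsLocallyNoetherian X.left := LocallyOfFiniteType.isLocallyNoetherian X.hom
  have hdomY : ∀ y : Y.left, IsDomain (Y.left.presheaf.stalk y) := fun y => by
    have := hY y; exact CAlg1.isDomain_regular _
  let η := genericPoint X.left
  have hη : X.hom η = (⊥ : PrimeSpectrum R) := by
    obtain ⟨x', hx', hp⟩ := Flat.generalizingMap X.hom
      (show (⊥ : PrimeSpectrum R) ⤳ X.hom η from (PrimeSpectrum.le_iff_specializes _ _).1 bot_le)
    have e : η = x' := (((genericPoint_spec X.left).specializes trivial).antisymm hx').eq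
    rwa [e]
  have hup : ∀ y : Y.left, G η ⤳ y := fun y => by
    obtain ⟨y', hy', hp⟩ := Flat.generalizingMap Y.hom
      (show (⊥ : PrimeSpectrum R) ⤳ Y.hom y from (PrimeSpectrum.le_iff_specializes _ _).1 bot_le)
    obtain ⟨x, rfl⟩ := hsurj y' hp
    exact ((genericPoint_spec X.left).specializes (Set.mem_univ x) |>.map G.continuous).trans hy'
  have : IsReduced Y.left := by
    have : ∀ y : Y.left, _root_.IsReduced (Y.left.presheaf.stalk y) := fun y => by
      have := hdomY y
      infer_instance
    exact isReduced_of_isReduced_stalk _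
  have : IrreducibleSpace Y.left := by
    refine (irreducibleSpace_def _).2 ?_
    have e : closure ({G η} : Set Y.left) = Set.univ := Set.eq_univ_of_forall fun y => (hup y).mem_closure
    show IsIrreducible Set.univ
    rw [← e]
    exact isIrreducible_singleton.closure
  have : IsIntegral Y.left := isIntegral_of_irreducibleSpace_of_isReduced _
  have hgen : G η = genericPoint Y.left :=
    ((hup _).antisymm ((genericPoint_spec Y.left).specializes trivial)).eq
  have : IsIso (G.stalkMap η) := hst η hη
  have hN : ∀ y : Y.left, IsIntegrallyClosed (Y.left.presheaf.stalk y) := fun y => by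
    have := hY y; exact CAlg6.isIntegrallyClosed_of_regular _
  obtain ⟨U, hU, hUiso⟩ := LimTop61.exists_isIso_morphismRestrict_of_isIso_stalkMap G η
  have hconn := (S2431.result G fun V => Curves2.isIso_app_of_birational G hN U ⟨_, hU⟩ V).1
  have hsurjG : ∀ y : Y.left, ∃ x, G x = y := fun y =>
    (hup y).mem_closed G.isClosedMap.isClosed_range (Set.mem_range_self η)
  have hfin : ∀ y : Y.left, (G ⁻¹' {y}).Finite := by
    intro y
    by_cases hy : Y.hom y = (⊥ : PrimeSpectrum R)
    · refine Set.Subsingleton.finite fun a ha b hb => hinj a b ?_ (ha.trans hb.symm)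
      rw [← hGp' a, ha, hy]
    have hpre : _root_.IsPreconnected (G ⁻¹' {y}) := by
      have := hconn y
      rw [← G.range_fiberι y]
      exact isPreconnected_range (G.fiberι y).continuous
    have : LocallyOfFiniteType (G.fiberToSpecResidueField y) := MorphismProperty.pullback_snd _ _ inferInstance
    have : QuasiCompact (G.fiberToSpecResidueField y) := MorphismProperty.pullback_snd _ _ inferInstance
    have : IsLocallyNoetherian (G.fiber y) := LocallyOfFiniteType.isLocallyNoetherian (G.fiberToSpecResidueField y)
    have : CompactSpace (G.fiber y) := isCompact_univ_iff.1 (by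
      simpa using (G.fiberToSpecResidueField y).isSpectralMap.isCompact_preimage_of_isOpen isOpen_univ isCompact_univ)
    have : IsNoetherian (G.fiber y) := ⟨⟩
    suffices h : ∀ a b : X.left, G a = y → G b = y → a ⤳ b → a = b by
      have : Finite (G.fiber y) := finite_of_forall_specializes fun a b hab => by
        refine (G.fiberι y).isEmbedding.injective (h _ _ ?_ ?_ (hab.map (G.fiberι y).continuous))
        · have := Set.mem_range_self (f := G.fiberι y) a
          rw [G.range_fiberι y] at this
          exact this
        · have := Set.mem_range_self (f := G.fiberι y) b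
          rw [G.range_fiberι y] at this
          exact this
      rw [← G.range_fiberι y]
      exact Set.finite_range _
    intro a b ha hb hab
    by_contra hne
    obtain ⟨ξ, hξy, hξs, hξd⟩ := exists_gen_dim_le_one Y.hom y
    obtain ⟨c, hcs, hc⟩ := exists_common_generization X.hom (Y.hom y) hpre ⟨a, ha⟩
      (fun x hx => by rw [Set.mem_preimage, Set.mem_singleton_iff, ← hGp' x, hx])
    have hca : c ⤳ a := hc a (by rw [← hGp' a, ha]) b hb hab
    have hηc : η ≠ c := fun e => hy (by rw [← hcs, ← e, hη])
    have hca' : c = a := eq_of_chain hdim ((genericPoint_spec X.left).specializes trivial) hca hab hηc hne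
    obtain ⟨x', hx'⟩ := hsurjG ξ
    obtain ⟨b', hb', hgb'⟩ : ∃ b', x' ⤳ b' ∧ G b' = y := by
      have h : y ∈ G '' closure {x'} :=
        (hξy.mem_closed (G.isClosedMap _ isClosed_closure) ⟨x', subset_closure rfl, hx'⟩)
      obtain ⟨b', hb', e⟩ := h
      exact ⟨b', specializes_iff_mem_closure.2 hb', e⟩
    have hcx : c ⤳ x' := hc x' (by rw [← hGp' x', hx', hξs]) b' hgb' hb'
    have hyξ : y ⤳ ξ := by
      rw [← hx', ← ha, ← hca']
      exact hcx.map G.continuous
    obtain rfl : ξ = y := (hξy.antisymm hyξ).eq
    have := hdomY ξ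
    have := hY ξ
    have := EGA73.valuationRing_of_regular _ hξd
    have : ValuationRing (Y.left.presheaf.stalk (G b)) := by rw [hb]; assumption
    exact hne (eq_of_specializes_valuation G hgen hab (ha.trans hb.symm))
  have : LocallyQuasiFinite G := LocallyQuasiFinite.of_finite_preimage_singleton G hfin
  have : IsFinite G := IsFinite.of_isProper_of_locallyQuasiFinite G
  have hiso : IsIso G := LimTop61.isIso_of_isFinite_birational hN G hgen (hst η hη)
  have : IsIso ((Over.forget _).map g) := hiso
  exact isIso_of_reflects_iso g (Over.forget _)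

end Groth.Agent.An92.ArMin
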