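import Groth.Agent.NeronHD28.SmoothReg
import Groth.Agent.NeronHD28.Proper
import Groth.Agent.LimTop61.FiniteBirational
import Groth.Agent.LimTop61.NormalPoint
import Groth.Agent.CAlg6.RegularNormal
import Groth.Agent.Curves2.BirationalPush
import Groth.Agent.An92.Ample.Family
import Groth.Agent.EGA73.ExtendCodimOne
import Groth.Agent.S2431
import Groth.Prelude.Def_Neron
import Mathlib.AlgebraicGeometry.ZariskisMainTheorem

/-! A proper birational morphism out of a smooth surface over a Dedekind scheme contracts no curve. -/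

set_option autoImplicit false
set_option backward.isDefEq.respectTransparency.types false

universe u

open AlgebraicGeometry CategoryTheory CategoryTheory.Limits TopologicalSpace

namespace Groth.Agent.An92.ArMin

variable {R : Type u} [CommRing R] [IsDedekindDomain R]

/-- Each point generizes inside its fibre to a point with local ring of dimension at most one. -/
theorem exists_gen_dim_le_one {Y : Scheme.{u}} (q : Y ⟶ Spec (CommRingCat.of R)) [IsLocallyNoetherian Y] (y : Y) :
    ∃ ξ : Y, ξ ⤳ y ∧ q ξ = q y ∧ ringKrullDim (Y.presheaf.stalk ξ) ≤ 1 := by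
  let O := (Spec (CommRingCat.of R)).presheaf.stalk (q y)
  let φ : O ⟶ Y.presheaf.stalk y := q.stalkMap y
  obtain ⟨π, hπ⟩ := (NeronHD28.isPrincipal_maximalIdeal_stalk_spec (R := R) (q y)).principal
  have hπm : π ∈ IsLocalRing.maximalIdeal O := hπ ▸ Submodule.mem_span_singleton_self π
  have hne : Ideal.span {φ π} ≠ ⊤ := by
    rw [Ne, Ideal.span_singleton_eq_top]
    exact fun h => (IsLocalRing.mem_maximalIdeal _).1 hπm (isUnit_of_map_unit φ.hom π h)
  obtain ⟨z, hz⟩ := Ideal.nonempty_minimalPrimes hne
  let zz : PrimeSpectrum (Y.presheaf.stalk y) := ⟨z, hz.1.1⟩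
  have hcl : (Spec.map φ).base zz = IsLocalRing.closedPoint O := by
    refine PrimeSpectrum.ext ?_
    have hle : IsLocalRing.maximalIdeal O ≤ z.comap φ.hom := by
      rw [hπ, Submodule.span_le]
      intro a ha
      rw [Set.mem_singleton_iff.1 ha]
      exact hz.1.2 (Ideal.mem_span_singleton_self _)
    have := hz.1.1
    exact ((IsLocalRing.maximalIdeal.isMaximal O).eq_of_le (Ideal.IsPrime.ne_top inferInstance) hle).symm
  refine ⟨(Y.fromSpecStalk y).base zz, ?_, ?_, ?_⟩
  · have : (Y.fromSpecStalk y).base zz ∈ Set.range (Y.fromSpecStalk y).base := ⟨zz, rfl⟩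
    rw [Scheme.range_fromSpecStalk] at this
    exact this
  · rw [← Scheme.Hom.comp_apply, ← Scheme.SpecMap_stalkMap_fromSpecStalk, Scheme.Hom.comp_apply, hcl,
      Scheme.fromSpecStalk_closedPoint]
  · rw [NeronHD28.ringKrullDim_stalk_fromSpecStalk]
    have := hz.1.1
    exact WithBot.coe_le_coe.2 (Ideal.height_le_one_of_isPrincipal_of_mem_minimalPrimes (Ideal.span {φ π}) z hz)

theorem isIso_stalkSpecializes_of_eq {Y : Scheme.{u}} {a b : Y} (he : a = b) (h : a ⤳ b) :
    IsIso (Y.presheaf.stalkSpecializes h) := by
  subst he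
  rw [TopCat.Presheaf.stalkSpecializes_refl]
  infer_instance

theorem exists_frac {Y : Scheme.{u}} [IsIntegral Y] {z y : Y} (hz : z = genericPoint Y) (h : z ⤳ y)
    (d : Y.presheaf.stalk z) : ∃ p q : Y.presheaf.stalk y, q ≠ 0 ∧
      Y.presheaf.stalkSpecializes h q * d = Y.presheaf.stalkSpecializes h p := by
  subst hz
  obtain ⟨⟨p, q⟩, e⟩ := IsLocalization.surj (nonZeroDivisors (Y.presheaf.stalk y)) (d : Y.functionField)
  exact ⟨p, q, nonZeroDivisors.ne_zero q.2, (mul_comm _ _).trans e⟩

/-- Over a valuation ring point a birational morphism has no specialisations in the fibre. -/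
theorem eq_of_specializes_valuation {X Y : Scheme.{u}} [IsIntegral X] [IsIntegral Y] (g : X ⟶ Y)
    (hgen : g (genericPoint X) = genericPoint Y) [IsIso (g.stalkMap (genericPoint X))]
    {a b : X} (hab : a ⤳ b) (he : g a = g b) [ValuationRing (Y.presheaf.stalk (g b))] : a = b := by
  have hb : genericPoint X ⤳ b := (genericPoint_spec X).specializes trivial
  have hsb := LimTop61.stalkSpecializes_injective rfl hb
  have hval : ∀ c : X.presheaf.stalk b, ∃ o, g.stalkMap b o = c := fun c => by
    obtain ⟨d, hd⟩ := (ConcreteCategory.bijective_of_isIso (g.stalkMap (genericPoint X))).2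
      (X.presheaf.stalkSpecializes hb c)
    let K := Y.presheaf.stalk (g (genericPoint X))
    have hge : g (genericPoint X) ⤳ g b := g.base.hom.map_specializes hb
    obtain ⟨p, q, hq, hpq⟩ := exists_frac hgen hge d
    have hcomm : ∀ o, g.stalkMap (genericPoint X) (Y.presheaf.stalkSpecializes hge o) =
        X.presheaf.stalkSpecializes hb (g.stalkMap b o) :=
      fun o => Scheme.Hom.stalkSpecializes_stalkMap_apply g _ _ hb o
    have e : g.stalkMap b q * c = g.stalkMap b p := hsb (by
      rw [map_mul, ← hcomm, ← hd, ← map_mul, hpq, hcomm])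
    obtain ⟨t, ht | ht⟩ := ValuationRing.cond p q
    · have hp0 : g.stalkMap b p ≠ 0 ∨ c = 0 := by
        refine or_iff_not_imp_left.2 fun h => ?_
        rw [not_not.1 h] at e
        refine (mul_eq_zero.1 e).resolve_left fun h0 => hq ?_
        refine LimTop61.stalkSpecializes_injective hgen hge ((ConcreteCategory.bijective_of_isIso (g.stalkMap (genericPoint X))).1 ?_)
        rw [hcomm, hcomm, h0]; simp only [map_zero]
      rcases hp0 with hp0 | hc
      swap
      · exact ⟨0, by rw [map_zero, hc]⟩
      rw [← ht, map_mul] at e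
      have hu : g.stalkMap b t * c = 1 := mul_left_cancel₀ hp0 (by rw [← mul_assoc, e, mul_one])
      obtain ⟨w, rfl⟩ := isUnit_of_map_unit (g.stalkMap b).hom t (IsUnit.of_mul_eq_one c hu)
      refine ⟨↑w⁻¹, ?_⟩
      calc g.stalkMap b ↑w⁻¹ = g.stalkMap b ↑w⁻¹ * (g.stalkMap b ↑w * c) := by rw [hu, mul_one]
        _ = c := by rw [← mul_assoc, ← map_mul, Units.inv_mul, map_one, one_mul]
    · refine ⟨t, ?_⟩
      rw [← ht, map_mul] at e
      have hq0 : g.stalkMap b q ≠ 0 := fun h0 => hq (by
        refine LimTop61.stalkSpecializes_injective hgen hge ((ConcreteCategory.bijective_of_isIso (g.stalkMap (genericPoint X))).1 ?_)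
        rw [hcomm, hcomm, h0]; simp only [map_zero])
      exact (mul_left_cancel₀ hq0 e).symm
  have hinj : Function.Injective (X.presheaf.stalkSpecializes hab) := by
    intro c c' h
    refine hsb ?_
    have ha : genericPoint X ⤳ a := (genericPoint_spec X).specializes trivial
    have hc : X.presheaf.stalkSpecializes hb = X.presheaf.stalkSpecializes hab ≫ X.presheaf.stalkSpecializes ha :=
      (TopCat.Presheaf.stalkSpecializes_comp _ _ _).symm
    rw [hc, ConcreteCategory.comp_apply, ConcreteCategory.comp_apply, h]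
  have hloc : ∀ c, IsUnit (X.presheaf.stalkSpecializes hab c) → IsUnit c := fun c hc => by
    obtain ⟨o, rfl⟩ := hval c
    rw [← Scheme.Hom.stalkSpecializes_stalkMap_apply g _ _ hab o] at hc
    have hgab : g a ⤳ g b := g.base.hom.map_specializes hab
    have hu := isUnit_of_map_unit (g.stalkMap a).hom _ hc
    refine IsUnit.map _ ?_
    have hiso : IsIso (Y.presheaf.stalkSpecializes hgab) := isIso_stalkSpecializes_of_eq he hgab
    exact (isUnit_map_iff (asIso (Y.presheaf.stalkSpecializes hgab)).commRingCatIsoToRingEquiv o).1 hu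
  refine hab.antisymm ?_ |>.eq
  have hcl : (Spec.map (X.presheaf.stalkSpecializes hab)) (IsLocalRing.closedPoint (X.presheaf.stalk a)) =
      IsLocalRing.closedPoint (X.presheaf.stalk b) := by
    refine PrimeSpectrum.ext (SetLike.ext fun c => ?_)
    show X.presheaf.stalkSpecializes hab c ∈ IsLocalRing.maximalIdeal _ ↔ c ∈ IsLocalRing.maximalIdeal _
    rw [IsLocalRing.mem_maximalIdeal, IsLocalRing.mem_maximalIdeal, mem_nonunits_iff, mem_nonunits_iff, not_iff_not]
    exact ⟨hloc c, IsUnit.map _⟩
  have h2 := congrArg (X.fromSpecStalk b) hcl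
  rw [← Scheme.Hom.comp_apply, X.SpecMap_stalkSpecializes_fromSpecStalk hab, Scheme.fromSpecStalk_closedPoint,
    Scheme.fromSpecStalk_closedPoint] at h2
  rw [h2]

/-- In a Noetherian scheme without nontrivial specialisations every set is finite. -/
theorem finite_of_forall_specializes {Z : Scheme.{u}} [NoetherianSpace Z] (h : ∀ a b : Z, a ⤳ b → a = b) :
    Finite Z := by
  have hfin := NoetherianSpace.finite_irreducibleComponents (α := Z)
  have := hfin.to_subtype
  refine Finite.of_surjective (fun W : irreducibleComponents (Z : Type u) => W.2.1.genericPoint) fun z => ?_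
  refine ⟨⟨_, irreducibleComponent_mem_irreducibleComponents z⟩, h _ _ ?_⟩
  refine IsGenericPoint.specializes (S := irreducibleComponent z) ?_ mem_irreducibleComponent
  have := (irreducibleComponent_mem_irreducibleComponents z).1.isGenericPoint_genericPoint_closure
  rwa [isClosed_irreducibleComponent.closure_eq] at this

/-- In a surface, four points of a chain cannot be distinct. -/
theorem eq_of_chain {X : Scheme.{u}} (hdim : topologicalKrullDim X ≤ 2) {p0 p1 p2 p3 : X} (h01 : p0 ⤳ p1)
    (h12 : p1 ⤳ p2) (h23 : p2 ⤳ p3) (n01 : p0 ≠ p1) (n23 : p2 ≠ p3) : p1 = p2 := by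
  by_contra n12
  let C : X → IrreducibleCloseds X := fun p => ⟨closure {p}, isIrreducible_singleton.closure, isClosed_closure⟩
  have hlt : ∀ {p q : X}, p ⤳ q → p ≠ q → C q < C p := fun {p q} h n => by
    refine lt_of_le_of_ne (fun z hz => closure_minimal (Set.singleton_subset_iff.2 h.mem_closure) isClosed_closure hz) fun e => n ?_
    have e' : closure ({q} : Set X) = closure {p} := congrArg IrreducibleCloseds.carrier e
    exact (Specializes.antisymm (specializes_iff_mem_closure.2 (e' ▸ subset_closure rfl))
      (specializes_iff_mem_closure.2 (e'.symm ▸ subset_closure rfl))).eq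
  let s : LTSeries (IrreducibleCloseds X) := LTSeries.mk 3 ![C p3, C p2, C p1, C p0]
    (Fin.strictMono_iff_lt_succ.2 fun i => by
      fin_cases i
      · exact hlt h23 n23
      · exact hlt h12 n12
      · exact hlt h01 n01)
  have hle : (s.length : WithBot ℕ∞) ≤ topologicalKrullDim X := Order.LTSeries.length_le_krullDim s
  exact absurd (hle.trans hdim) (by simp [s] <;> decide)

variable {X : Scheme.{u}} (pX : X ⟶ Spec (CommRingCat.of R))

/-- Points of a connected subset of a fibre have a common generalisation in that fibre. -/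
theorem exists_common_generization [Smooth pX] [QuasiCompact pX] (s : Spec (CommRingCat.of R)) {F : Set X}
    (hF : _root_.IsPreconnected F) (hne : F.Nonempty) (hFs : F ⊆ pX ⁻¹' {s}) :
    ∃ η : X, pX η = s ∧ ∀ x : X, pX x = s → ∀ z ∈ F, x ⤳ z → η ⤳ x := by
  let Z := pX.fiber s
  let k : Type u := (Spec (CommRingCat.of R)).residueField s
  have : Smooth (pX.fiberToSpecResidueField s) := MorphismProperty.pullback_snd _ _ inferInstance
  have hdom : ∀ z : Z, IsDomain (Z.presheaf.stalk z) := fun z =>
    @NeronHD28.isDomain_stalk_of_smooth k _ (IsPrincipalIdealRing.isDedekindDomain k) _ (pX.fiberToSpecResidueField s) inferInstance z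
  have : IsLocallyNoetherian Z := LocallyOfFiniteType.isLocallyNoetherian (pX.fiberToSpecResidueField s)
  have : CompactSpace Z := isCompact_univ_iff.1 (by
    simpa using (pX.fiberToSpecResidueField s).isSpectralMap.isCompact_preimage_of_isOpen isOpen_univ isCompact_univ)
  have : IsNoetherian Z := ⟨⟩
  let ι := pX.fiberι s
  have hι : Topology.IsEmbedding ι := ι.isEmbedding
  have hr : ∀ x : X, pX x = s → ∃ z : Z, ι z = x := fun x hx => by
    have : x ∈ Set.range ι := by rw [pX.range_fiberι s]; exact hx
    exact this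
  let F' : Set Z := ι ⁻¹' F
  have hF' : _root_.IsPreconnected F' := hι.isInducing.isPreconnected_image.1 (by
    rw [Set.image_preimage_eq_of_subset ((pX.range_fiberι s).symm ▸ hFs)]
    exact hF)
  obtain ⟨z₀, hz₀⟩ := hr _ (hFs hne.some_mem)
  let C := irreducibleComponent z₀
  have hC : C ∈ irreducibleComponents (Z : Type u) := irreducibleComponent_mem_irreducibleComponents z₀
  have hsub : F' ⊆ C := by
    have hfin := NoetherianSpace.finite_irreducibleComponents (α := Z)
    let D : Set Z := ⋃ W ∈ irreducibleComponents (Z : Type u) \ {C}, W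
    have hD : IsClosed D := hfin.sdiff.isClosed_biUnion fun W hW => isClosed_of_mem_irreducibleComponents W hW.1
    have hdisj : C ∩ D = ∅ := Set.eq_empty_iff_forall_notMem.2 fun z ⟨hz, hzD⟩ => by
      obtain ⟨W, ⟨hW, hWC⟩, hzW⟩ := Set.mem_iUnion₂.1 hzD
      exact hWC (AmpleFam.eq_of_mem_irreducibleComponents hdom hW hC hzW hz)
    rcases isPreconnected_iff_subset_of_disjoint_closed.1 hF' C D isClosed_irreducibleComponent hD
      (fun z _ => by
        by_cases h : irreducibleComponent z = C
        · exact Or.inl (h ▸ mem_irreducibleComponent)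
        · exact Or.inr (Set.mem_biUnion ⟨irreducibleComponent_mem_irreducibleComponents z, h⟩ mem_irreducibleComponent))
      (by rw [hdisj, Set.inter_empty]) with h | h
    · exact h
    · exact absurd (h (show ι z₀ ∈ F from hz₀ ▸ hne.some_mem)) fun hzD =>
        (Set.eq_empty_iff_forall_notMem.1 hdisj) z₀ ⟨mem_irreducibleComponent, hzD⟩
  have hgen : IsGenericPoint hC.1.genericPoint C := by
    simpa [isClosed_irreducibleComponent.closure_eq, C] using hC.1.isGenericPoint_genericPoint_closure
  refine ⟨ι hC.1.genericPoint, ?_, fun x hx z hz hxz => ?_⟩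
  · have h := Set.mem_range_self (f := ι) hC.1.genericPoint
    rw [pX.range_fiberι s] at h
    exact h
  obtain ⟨x', rfl⟩ := hr x hx
  obtain ⟨z', rfl⟩ := hr z (hFs hz)
  have hxz' : x' ⤳ z' := hι.isInducing.specializes_iff.1 hxz
  have hzC : z' ∈ C := hsub hz
  have e : irreducibleComponent x' = C := AmpleFam.eq_of_mem_irreducibleComponents hdom
    (irreducibleComponent_mem_irreducibleComponents x') hC
    (hxz'.mem_closed isClosed_irreducibleComponent mem_irreducibleComponent) hzC
  exact (hgen.specializes (e ▸ mem_irreducibleComponent)).map ι.continuous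

end Groth.Agent.An92.ArMin
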